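import Cfsg.Agent.H826.RgF.Glue
import Cfsg.Agent.H826.RgD.Plane

/-!
# S3691, reduction of the plus type: two reducible factors (helper308)

* `exists_gram` : vectors with given Gram data in a nondegenerate space of dimension at least five
* `exists_move` : an anisotropic plane can be moved into a nondegenerate subspace of dimension at least five
* `not_both_rd` : the two factors are not both reducible
-/

set_option autoImplicit false
set_option linter.unusedSectionVars false

namespace Cfsg.Agent.H308.Rg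

open Module QuadraticMap Cfsg Cfsg.Geo Cfsg.Agent.LieClassical.OrthCore Cfsg.Agent.LieClassical.OrthTrans
  Cfsg.Agent.H454.Reg Cfsg.Agent.H449.Reg Cfsg.Agent.H955 Cfsg.Agent.H954.TSing Cfsg.Agent.H884.El
open Cfsg.Agent.H951 (fx cm Inv)
open Cfsg.Agent.H826.Rg (preE mem_preE preE_le_E preE_le_O mem_preE_iff mem_preE_iff' card_preE)
open Cfsg.Agent.H964.Rg (ResV ResP Cx)
open Cfsg.Agent.LieClassical.OrthFinite (glEquiv exists_sing_perp)
open Cfsg.Agent.H826.RgF
open Cfsg.Agent.H386.Rg (Aniso)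
open scoped MatrixGroups Matrix

universe u

section abs

variable {F V : Type*} [Field F] [AddCommGroup V] [Module F V] {Q : QuadraticForm F V} [Finite F] [FiniteDimensional F V]

/-- vectors with given Gram data -/
theorem exists_gram (hQ : Nondeg Q) (hd : 5 ≤ finrank F V) (a b c : F) :
    ∃ u w : V, Q u = a ∧ Q w = b ∧ polar Q u w = c := by
  obtain ⟨e, he0, he, -⟩ := exists_sing_perp (Q := Q) (![] : Fin 0 → V) (by omega)
  obtain ⟨f, hf⟩ := exists_hyp hQ he he0
  obtain ⟨g, hg0, hg, hgg⟩ := exists_sing_perp (Q := Q) ![e, f] (by omega)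
  obtain ⟨h, hh, hh1, hh2⟩ := exists_hyp_perp hQ hf hg hg0 (hgg 0) (hgg 1)
  have e1 : polar Q e g = 0 := hgg 0
  have e2 : polar Q f g = 0 := hgg 1
  have e3 : polar Q e f = 1 := hf.pair
  have e4 : polar Q g h = 1 := hh.pair
  have e5 : Q f = 0 := hf.right
  have e6 : Q h = 0 := hh.right
  have e7 : polar Q f f = 0 := hf.polar_right
  refine ⟨e + a • f, c • f + (g + b • h), ?_, ?_, ?_⟩
  · rw [Q_add, QuadraticMap.map_smul, he, e5, polar_smul_right, e3]
    simp
  · rw [Q_add, Q_add, QuadraticMap.map_smul, QuadraticMap.map_smul, e5, hg, e6, polar_smul_right, e4,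
      polar_add_right, polar_smul_left, polar_smul_left, polar_smul_right, e2, hh2]
    simp
  · rw [polar_add_left, polar_smul_left, polar_add_right, polar_add_right, polar_add_right, polar_add_right,
      polar_smul_right, polar_smul_right, polar_smul_right, polar_smul_right, e1, e2, e3, e7, hh1, hh2]
    simp

/-- an anisotropic plane can be moved into a nondegenerate subspace -/
theorem exists_move (hQ : Nondeg Q) (hd : 6 ≤ finrank F V) {P W : Submodule F V} (hP : finrank F P = 2)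
    (ha : ∀ x ∈ P, Q x = 0 → x = 0) (hW : Nondeg (res Q W)) (hWd : 5 ≤ finrank F W) :
    ∃ g ∈ E Q, ∀ x ∈ P, g x ∈ W := by
  have hPf : Module.Finite F P := Module.finite_of_finrank_pos (by omega)
  obtain ⟨b⟩ : Nonempty (Basis (Fin 2) F P) := ⟨Module.finBasisOfFinrankEq F P hP⟩
  set u : V := ((b 0 : P) : V) with hu
  set w : V := ((b 1 : P) : V) with hw
  have h0 : Aniso Q u w := by
    intro x y hxy
    have h1 := ha _ (P.add_mem (P.smul_mem x (b 0).2) (P.smul_mem y (b 1).2)) hxy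
    have h2 : x • b 0 + y • b 1 = 0 := Subtype.ext h1
    exact LinearIndependent.pair_iff.1 (show LinearIndependent F ![b 0, b 1] by
      have := b.linearIndependent
      have e : (⇑b : Fin 2 → P) = ![b 0, b 1] := by
        funext i; fin_cases i <;> rfl
      rwa [e] at this) x y h2
  obtain ⟨u', w', h1, h2, h3⟩ := exists_gram hW hWd (Q u) (Q w) (polar Q u w)
  obtain ⟨g, hg, hgu, hgw⟩ := H826.RgD.trans_aniso hQ hd h0 (u' := (u' : V)) (w' := (w' : V)) h1.symm h2.symm h3.symm
  refine ⟨g, hg, fun x hx => ?_⟩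
  have h4 : x = b.repr ⟨x, hx⟩ 0 • u + b.repr ⟨x, hx⟩ 1 • w := by
    have h5 := congrArg Subtype.val (b.sum_repr ⟨x, hx⟩)
    rw [Fin.sum_univ_two] at h5
    exact h5.symm
  rw [h4, map_add, map_smul, map_smul, hgu, hgw]
  exact W.add_mem (W.smul_mem _ u'.2) (W.smul_mem _ w'.2)

end abs

section tl

variable {ι : Type} [Fintype ι] [DecidableEq ι] {F : Type} [Field F] [Fintype F] {Q : QuadraticForm F (ι → F)}
variable {G : Type u} [Group G] [Finite G] {T : Subgroup G} [T.Normal] {hG : Good Q} {eT : T ≃* POmega F (⇑Q)}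
  {hI : Ind (eP hG eT)} {X Y : Subgroup G} {p f m : ℕ}

/-- **two reducible factors** -/
theorem not_both_rd (h : Cx hI X Y p f m (2 * m - 2)) (hP : IsPlus Q) (hm : 5 ≤ m) {r2 r4 : ℕ}
    (hr2 : PP p (f * (2 * m - 2)) r2) (hr4 : PP p (f * (2 * m - 4)) r4) (h2 : r2 ∣ Nat.card (X.subgroupOf T))
    (h4 : r4 ∣ Nat.card (Y.subgroupOf T)) (hX : Rd (preE (eP hG eT) X)) (hY : Rd (preE (eP hG eT) Y)) : False := by
  have hQ : Nondeg Q := hG.nondeg
  have hn : finrank F (ι → F) = 2 * m := h.finrank_V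
  have hp2 := h.pp hr2
  have hp4 := h.pp hr4
  obtain ⟨x, hx, hxr, hx1⟩ := El.exists_elt hr2.prime (el_prime (hG := hG) (eT := eT) hr2.prime h2)
  obtain ⟨y, hy, hyr, hy1⟩ := El.exists_elt hr4.prime (el_prime (hG := hG) (eT := eT) hr4.prime h4)
  obtain ⟨S, hS0, hSx, hSX⟩ := fixed_of_rd (hI := hI) hp2 (by omega) (by omega) hx hxr hx1 hX
  obtain ⟨S', hS0', hSy, hSY⟩ := fixed_of_rd (hI := hI) hp4 (by omega) (by omega) hy hyr hy1 hY
  obtain ⟨hPd, hPa⟩ := fx_type hQ hP hm hn hp2 (preE_le_O hx) hxr hx1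
  obtain ⟨-, hcd, -⟩ := block hp4 (by omega) (by omega) (preE_le_O hy) hyr hy1
  obtain ⟨g, hg, hgP⟩ := exists_move hQ (by omega) hPd hPa (nondeg_cm' hQ hp4 (by omega) (preE_le_O hy) hyr) (by omega)
  refine no_common' hG hI h.fac.symm hS0' hSY hS0 hSX ⟨g, hg, fun s hs p' hp' => ?_⟩
  have h5 : p' ∈ perp Q (cm (y : Module.End F (ι → F))) := by
    rw [perp_cm' hQ hp4 (by omega) (preE_le_O hy) hyr]
    exact hSy hp'
  exact h5 _ (hgP s (hSx hs))

end tl

end Cfsg.Agent.H308.Rg
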